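import Groth.Agent.L14.RegImmStalk.Kinds
import Groth.Agent.L07.RegImmLocal
import Groth.Agent.L02.CAlg.QFSlice.Charts
import Groth.Prelude.Def_CInt
import Mathlib.AlgebraicGeometry.Noetherian

/-! # Regular immersions into locally Noetherian schemes, read in the stalks -/

set_option autoImplicit false
set_option linter.style.haveILetI false
set_option maxSynthPendingDepth 3

universe u

open CategoryTheory AlgebraicGeometry RingTheory.Sequence

namespace Groth.L14.RegImmStalk

variable {X Z : Scheme.{u}} (i : Z ⟶ X)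

theorem ker_stalkMap [IsImmersion i] {W : X.Opens} (hW : IsAffineOpen W) (hcl : IsClosedImmersion (i ∣_ W))
    (z : Z) (hz : i z ∈ W) :
    RingHom.ker (i.stalkMap z).hom =
      (RingHom.ker (i.app W).hom).map (X.presheaf.germ W (i z) hz).hom := by
  have hs := Groth.L07.RegImmComp.app_surjective i W hW hcl
  haveI := hcl
  haveI : IsAffine (W : Scheme.{u}) := hW
  have hpre : IsAffineOpen (i ⁻¹ᵁ W) := isAffine_of_isAffineHom (i ∣_ W)
  letI : Algebra Γ(X, W) (X.presheaf.stalk (i z)) := (X.presheaf.germ W (i z) hz).hom.toAlgebra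
  haveI := hW.isLocalization_stalk ⟨i z, hz⟩
  letI : Algebra Γ(Z, i ⁻¹ᵁ W) (Z.presheaf.stalk z) := (Z.presheaf.germ (i ⁻¹ᵁ W) z hz).hom.toAlgebra
  haveI := hpre.isLocalization_stalk ⟨z, hz⟩
  have hgerm : ∀ a, (i.stalkMap z).hom ((X.presheaf.germ W (i z) hz).hom a) =
      (Z.presheaf.germ (i ⁻¹ᵁ W) z hz).hom ((i.app W).hom a) := fun a =>
    ConcreteCategory.congr_hom (Scheme.Hom.germ_stalkMap i W z hz) a
  refine le_antisymm (fun w hw => ?_) (Ideal.map_le_iff_le_comap.mpr fun a ha => ?_)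
  · obtain ⟨a, s, rfl⟩ := IsLocalization.exists_mk'_eq (hW.primeIdealOf ⟨i z, hz⟩).asIdeal.primeCompl w
    rw [show (X.presheaf.germ W (i z) hz).hom = algebraMap _ _ from rfl,
      IsLocalization.mk'_mem_map_algebraMap_iff]
    have h1 : (Z.presheaf.germ (i ⁻¹ᵁ W) z hz).hom ((i.app W).hom a) = 0 := by
      rw [← hgerm, show (X.presheaf.germ W (i z) hz).hom a = IsLocalization.mk' _ a s * algebraMap _ _ (s : Γ(X, W))
        from (IsLocalization.mk'_spec _ a s).symm, map_mul, RingHom.mem_ker.mp hw, zero_mul]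
    obtain ⟨⟨t, ht⟩, hta⟩ := (IsLocalization.map_eq_zero_iff (hpre.primeIdealOf ⟨z, hz⟩).asIdeal.primeCompl
      (Z.presheaf.stalk z) _).mp h1
    obtain ⟨b, rfl⟩ := hs t
    refine ⟨b, fun hb => ht ?_, by rw [RingHom.mem_ker, map_mul]; exact hta⟩
    have e : (hpre.primeIdealOf ⟨z, hz⟩).asIdeal.comap (i.app W).hom = (hW.primeIdealOf ⟨i z, hz⟩).asIdeal := by
      have := IsAffineOpen.comap_primeIdealOf_appLE (f := i) W hW (i ⁻¹ᵁ W) hpre le_rfl (x := z) hz
      rw [← Scheme.Hom.app_eq_appLE] at this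
      exact congrArg PrimeSpectrum.asIdeal this
    rw [← e] at hb
    exact hb
  · show (i.stalkMap z).hom _ = 0
    rw [hgerm, RingHom.mem_ker.mp ha, map_zero]

/-- On a locally Noetherian scheme a regular immersion (of any kind) is one with stalk kernels generated by regular
sequences. -/
theorem regularAt_iff_stalk [IsLocallyNoetherian X] [IsImmersion i] (k : RegImm.Kind) (z : Z) :
    RegImm.IsRegularImmersionAt k i z ↔ CInt.IsRegularIdeal (RingHom.ker (i.stalkMap z).hom) := by
  classical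
  have hker1 : RingHom.ker (i.stalkMap z).hom ≤ IsLocalRing.maximalIdeal (X.presheaf.stalk (i z)) :=
    IsLocalRing.le_maximalIdeal (RingHom.ker_ne_top _)
  constructor
  · rintro ⟨⟨W, hW⟩, hz, hcl, rs, hrs, hker⟩
    haveI : IsNoetherianRing Γ(X, W) := IsLocallyNoetherian.component_noetherian ⟨W, hW⟩
    letI : Algebra Γ(X, W) (X.presheaf.stalk (i z)) := (X.presheaf.germ W (i z) hz).hom.toAlgebra
    haveI := hW.isLocalization_stalk ⟨i z, hz⟩
    haveI : IsNoetherianRing (X.presheaf.stalk (i z)) :=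
      IsLocalization.isNoetherianRing (hW.primeIdealOf ⟨i z, hz⟩).asIdeal.primeCompl _ inferInstance
    have hk := ker_stalkMap i hW hcl z hz
    rw [hker, Ideal.map_ofList] at hk
    have hle : Ideal.ofList rs ≤ (hW.primeIdealOf ⟨i z, hz⟩).asIdeal := fun a ha => by
      refine (IsLocalization.AtPrime.to_map_mem_maximal_iff (X.presheaf.stalk (i z)) _ a).mp (hker1 ?_)
      rw [hk, ← Ideal.map_ofList]
      exact Ideal.mem_map_of_mem _ ha
    refine ⟨rs.map (X.presheaf.germ W (i z) hz).hom,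
      ⟨isWeaklyRegular_of_kind k hrs _ hle (X.presheaf.stalk (i z)), fun htop => ?_⟩, hk.symm⟩
    rw [smul_eq_mul, Ideal.mul_top, ← hk] at htop
    exact RingHom.ker_ne_top _ htop.symm
  · intro h
    obtain ⟨rs, hrs, hrs'⟩ := h
    obtain ⟨W₀, hzW₀, hcl₀⟩ := Groth.L07.RegImmAt.exists_isClosedImmersion_restrict i z
    obtain ⟨_, ⟨W, hW, rfl⟩, hz, hWle⟩ := (X.isBasis_affineOpens).exists_subset_of_mem_open hzW₀ W₀.2
    have hcl := Groth.L07.RegImmAt.restrict_closed i hWle hcl₀
    haveI : IsNoetherianRing Γ(X, W) := IsLocallyNoetherian.component_noetherian ⟨W, hW⟩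
    letI : Algebra Γ(X, W) (X.presheaf.stalk (i z)) := (X.presheaf.germ W (i z) hz).hom.toAlgebra
    haveI := hW.isLocalization_stalk ⟨i z, hz⟩
    haveI : IsNoetherianRing (X.presheaf.stalk (i z)) :=
      IsLocalization.isNoetherianRing (hW.primeIdealOf ⟨i z, hz⟩).asIdeal.primeCompl _ inferInstance
    let P := (hW.primeIdealOf ⟨i z, hz⟩).asIdeal
    let K := RingHom.ker (i.app W).hom
    let L := X.presheaf.stalk (i z)
    have hk : RingHom.ker (i.stalkMap z).hom = K.map (algebraMap Γ(X, W) L) := ker_stalkMap i hW hcl z hz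
    have hKP : K ≤ P := fun a ha => (IsLocalization.AtPrime.to_map_mem_maximal_iff L P a).mp
      (hker1 (hk ▸ Ideal.mem_map_of_mem _ ha))
    obtain ⟨g, hg, l, hl⟩ := Groth.L07.KoszulIdeal.regAt_of_atPrime K P hKP L rs hrs.toIsWeaklyRegular
      (hk.symm.trans hrs'.symm)
    have hu : IsUnit (algebraMap Γ(X, W) L g) := IsLocalization.map_units L (⟨g, hg⟩ : P.primeCompl)
    have hlmax : ∀ x ∈ l.map (algebraMap Γ(X, W) L), x ∈ IsLocalRing.maximalIdeal L := fun x hx => by
      obtain ⟨y, hy, rfl⟩ := List.mem_map.mp hx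
      exact (IsLocalization.AtPrime.to_map_mem_maximal_iff L P y).mpr (hKP (hl.1 y hy))
    have hw : IsWeaklyRegular L (l.map (algebraMap Γ(X, W) L)) :=
      Groth.L07.KoszulBC.isWeaklyRegular_of_koszul _ hlmax (fun n hn =>
        Groth.L07.KoszulBC.isZero_of_isKoszulRegularSeq _ (hl.regular (algebraMap Γ(X, W) L)
          (RingHom.flat_algebraMap_iff.mpr (IsLocalization.flat L P.primeCompl)) hu) n hn)
    obtain ⟨g', hg', hT⟩ := Groth.L07.RegSeq.exists_away_isWeaklyRegular l P L hw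
    let G := g * g'
    have hG : G ∉ P := fun hm => ((hW.primeIdealOf ⟨i z, hz⟩).isPrime.mem_or_mem hm).elim hg hg'
    let D := X.basicOpen G
    have hD : IsAffineOpen D := hW.basicOpen G
    have hzD : i z ∈ D := by
      rw [show D = X.basicOpen G from rfl, X.mem_basicOpen _ _ hz]
      exact IsLocalization.map_units L (⟨G, hG⟩ : P.primeCompl)
    obtain ⟨hclD, hkD⟩ := Groth.L07.RegImmAt.ker_restrict hW hD (X.basicOpen_le G) hcl
    haveI := hW.isLocalization_basicOpen G
    have hlD : IsWeaklyRegular Γ(X, D) (l.map (algebraMap Γ(X, W) Γ(X, D))) :=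
      hT Γ(X, D) G inferInstance (dvd_mul_left g' g)
    have hgen : RingHom.ker (i.app D).hom = Ideal.ofList (l.map (algebraMap Γ(X, W) Γ(X, D))) := by
      rw [hkD]
      exact hl.map_eq _ (isUnit_of_dvd_unit (map_dvd _ (dvd_mul_right g g')) (IsLocalization.Away.algebraMap_isUnit G))
    refine ⟨⟨D, hD⟩, hzD, hclD, _, kind_of_isRegular k ⟨hlD, fun htop => ?_⟩, hgen⟩
    rw [smul_eq_mul, Ideal.mul_top, ← hgen] at htop
    have h1 : (1 : Γ(X, D)) ∈ RingHom.ker (i.app D).hom := htop ▸ Submodule.mem_top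
    rw [RingHom.mem_ker, map_one] at h1
    have h2 := congrArg (Z.presheaf.germ (i ⁻¹ᵁ D) z hzD).hom h1
    rw [map_one, map_zero] at h2
    exact one_ne_zero h2

theorem ker_app_restrict (V : X.Opens) (U : V.toScheme.Opens) :
    RingHom.ker ((i ∣_ V).app U).hom = RingHom.ker (i.app (V.ι ''ᵁ U)).hom := by
  have hinj := (ConcreteCategory.bijective_of_isIso
    (Z.presheaf.map (eqToHom (image_morphismRestrict_preimage i V U)).op)).1
  ext a
  have h : ((i ∣_ V).app U).hom a =
      (Z.presheaf.map (eqToHom (image_morphismRestrict_preimage i V U)).op).hom ((i.app (V.ι ''ᵁ U)).hom a) := by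
    rw [morphismRestrict_app]
    rfl
  constructor
  · intro ha
    exact hinj ((h.symm.trans ha).trans (map_zero _).symm)
  · intro ha
    exact (h.trans (congrArg _ ha)).trans (map_zero _)

/-- Regular closed immersions near a point, read in the stalk. -/
theorem exists_restrict_iff_stalk [IsLocallyNoetherian X] [IsClosedImmersion i] (z : Z) :
    (∃ V : X.Opens, i z ∈ V ∧ Mor2.IsRegularClosedImmersion (i ∣_ V)) ↔
      CInt.IsRegularIdeal (RingHom.ker (i.stalkMap z).hom) := by
  rw [← regularAt_iff_stalk i RegImm.Kind.regular z]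
  constructor
  · rintro ⟨V, hzV, hcl, h⟩
    obtain ⟨U, hU, hzU, rs, hrs, hker⟩ := h ⟨z, hzV⟩
    haveI := hcl
    rw [Scheme.Hom.ker_apply, ker_app_restrict] at hker
    exact ⟨⟨_, hU.image_of_isOpenImmersion V.ι⟩, ⟨_, hzU, morphismRestrict_base_coe i V ⟨z, hzV⟩⟩, inferInstance,
      rs, hrs, hker⟩
  · rintro ⟨⟨W, hW⟩, hzW, hcl, hrest⟩
    haveI := hcl
    haveI : IsAffine (W : Scheme.{u}) := hW
    have hex : ∃ rs : List Γ(X, W), RingTheory.Sequence.IsRegular Γ(X, W) rs ∧
        RingHom.ker (i.app W).hom = Ideal.ofList rs := hrest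
    have e : W.ι ''ᵁ ⊤ = W := W.ι_image_top
    rw [← e] at hex
    obtain ⟨rs, hrs, hker⟩ := hex
    refine ⟨W, hzW, inferInstance, fun w => ⟨⊤, isAffineOpen_top _, trivial, rs, hrs, ?_⟩⟩
    rw [Scheme.Hom.ker_apply, ker_app_restrict]
    exact hker

end Groth.L14.RegImmStalk
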