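import Groth.Agent.L14.RegImmStalk.Stalk
import Groth.Agent.L07.CIFactor
import Groth.Agent.S2836
import Groth.Agent.S2837
import Groth.Agent.S2838
import Groth.Agent.S5033

/-! # Two successive immersions in the stalks -/

set_option autoImplicit false
set_option linter.style.haveILetI false

universe u

open CategoryTheory AlgebraicGeometry

namespace Groth.L14.RegImmStalk

variable {A B : Type u} [CommRing A] [CommRing B] [IsNoetherianRing A] [IsLocalRing A] [IsNoetherianRing B] [IsLocalRing B]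
  (σ : A →+* B) (hσ : Function.Surjective σ)

include hσ in
theorem regularIdeal_iff_map (K : Ideal B) :
    CInt.IsRegularIdeal K ↔ CInt.IsRegularIdeal ((K.comap σ).map (Ideal.Quotient.mk (RingHom.ker σ))) := by
  haveI : IsLocalRing (A ⧸ RingHom.ker σ) := Groth.L01.isLocalRing_quotient (RingHom.ker_ne_top σ)
  let e := RingHom.quotientKerEquivOfSurjective hσ
  have h1 : ((K.comap σ).map (Ideal.Quotient.mk (RingHom.ker σ))).map (e : A ⧸ RingHom.ker σ →+* B) = K := by
    rw [Ideal.map_map, show (e : A ⧸ RingHom.ker σ →+* B).comp (Ideal.Quotient.mk _) = σ from RingHom.ext fun a => rfl,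
      Ideal.map_comap_of_surjective σ hσ]
  refine ⟨fun h => ?_, fun h => h1 ▸ Groth.L07.CIFactor.isRegularIdeal_equiv e h⟩
  have h2 := Groth.L07.CIFactor.isRegularIdeal_equiv e.symm h
  rwa [← h1, Ideal.map_map, show (e.symm : B →+* A ⧸ RingHom.ker σ).comp (e : A ⧸ RingHom.ker σ →+* B) = RingHom.id _ from
    RingHom.ext fun a => e.symm_apply_apply a, Ideal.map_id] at h2

include hσ in
theorem pair_iff (K : Ideal B) (hK : K ≠ ⊤) :
    (CInt.IsRegularIdeal K ∧ CInt.IsRegularIdeal (RingHom.ker σ)) ↔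
      (CInt.IsRegularIdeal K ∧ CInt.IsRegularIdeal (K.comap σ)) := by
  have hle : RingHom.ker σ ≤ K.comap σ := fun a ha => by rw [Ideal.mem_comap, RingHom.mem_ker.mp ha]; exact zero_mem K
  have hmax : K.comap σ ≤ IsLocalRing.maximalIdeal A := IsLocalRing.le_maximalIdeal (Ideal.comap_ne_top σ hK)
  refine and_congr_right fun h => ⟨fun hI => ?_, fun hJ => ?_⟩
  · exact Groth.Agent.S2836.result A _ _ hle hmax hI ((regularIdeal_iff_map σ hσ K).mp h)
  · exact Groth.Agent.S2837.result A _ _ hle hmax hJ ((regularIdeal_iff_map σ hσ K).mp h)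

include hσ in
theorem comp_iff [IsRegularLocalRing A] [IsRegularLocalRing B] (K : Ideal B) (hK : K ≠ ⊤) :
    CInt.IsRegularIdeal (K.comap σ) ↔ CInt.IsRegularIdeal K := by
  have hle : RingHom.ker σ ≤ K.comap σ := fun a ha => by rw [Ideal.mem_comap, RingHom.mem_ker.mp ha]; exact zero_mem K
  rw [regularIdeal_iff_map σ hσ K]
  exact Groth.Agent.S2838.result A _ _ hle (IsLocalRing.le_maximalIdeal (Ideal.comap_ne_top σ hK))
    (IsRegularLocalRing.of_ringEquiv (RingHom.quotientKerEquivOfSurjective hσ).symm)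

theorem isNoetherianRing_stalk' {X : Scheme.{u}} [IsLocallyNoetherian X] (x : X) :
    IsNoetherianRing (X.presheaf.stalk x) := by
  obtain ⟨_, ⟨W, hW, rfl⟩, hx, -⟩ := (X.isBasis_affineOpens).exists_subset_of_mem_open (Set.mem_univ x) isOpen_univ
  haveI : IsNoetherianRing Γ(X, W) := IsLocallyNoetherian.component_noetherian ⟨W, hW⟩
  letI : Algebra Γ(X, W) (X.presheaf.stalk x) := (X.presheaf.germ W x hx).hom.toAlgebra
  haveI := hW.isLocalization_stalk ⟨x, hx⟩
  exact IsLocalization.isNoetherianRing (hW.primeIdealOf ⟨x, hx⟩).asIdeal.primeCompl _ inferInstance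

end Groth.L14.RegImmStalk
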