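import Groth.Agent.L02.QuasiRegAppend
import Groth.Agent.L14.QRegRegular
import Groth.Agent.L07.RegularLCI
import Groth.Agent.L19.Thick.H1Reg
import Groth.Prelude.Def_RegImm

/-! # The four kinds of regular sequences in Noetherian local rings -/

set_option autoImplicit false
set_option linter.style.haveILetI false

universe u

open MvPolynomial RingTheory.Sequence

namespace Groth.L14.RegImmStalk

variable {R : Type u} [CommRing R]

/-- `H₁`-regular sequences are quasi-regular. -/
theorem isQuasiRegular_of_h1 {c : ℕ} {f : Fin c → R} (hf : CAlgX.IsH1Regular f) : CAlgX.IsQuasiRegular f := by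
  classical
  intro n P hP hmem d
  obtain ⟨G, hG, hGe⟩ := Groth.L07.QReg.exists_homogeneous_of_mem_span_pow f (n + 1) hmem
  obtain ⟨S, hS, rfl⟩ := Groth.L02.QuasiRegAppend.exists_split hG
  have h0 : eval f (P - ∑ i, C (f i) * S i) = 0 := by
    simp [← hGe]
  have h1 := Groth.L02.QuasiRegAppend.mem_trivRel hf n _
    (hP.sub (IsHomogeneous.sum _ _ _ fun i _ => (hS i).C_mul _)) h0
  have h2 : ∑ i, C (f i) * S i ∈ (Ideal.span (Set.range f)).map C :=
    sum_mem fun i _ => Ideal.mul_mem_right _ _ (Ideal.mem_map_of_mem _ (Ideal.subset_span ⟨i, rfl⟩))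
  have h3 : Groth.L02.QuasiRegAppend.trivRel f ≤ (Ideal.span (Set.range f)).map C := by
    refine Ideal.span_le.mpr ?_
    rintro _ ⟨ab, rfl⟩
    exact sub_mem (Ideal.mul_mem_right _ _ (Ideal.mem_map_of_mem _ (Ideal.subset_span ⟨_, rfl⟩)))
      (Ideal.mul_mem_right _ _ (Ideal.mem_map_of_mem _ (Ideal.subset_span ⟨_, rfl⟩)))
  have h4 : P ∈ (Ideal.span (Set.range f)).map C := by
    rw [← sub_add_cancel P (∑ i, C (f i) * S i)]
    exact add_mem (h3 h1) h2
  exact mem_map_C_iff.mp h4 d

/-- Quasi-regular sequences stay quasi-regular in a localization. -/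
theorem isQuasiRegular_localization (M : Submonoid R) (L : Type u) [CommRing L] [Algebra R L] [IsLocalization M L]
    {c : ℕ} {f : Fin c → R} (hf : CAlgX.IsQuasiRegular f) : CAlgX.IsQuasiRegular (algebraMap R L ∘ f) := by
  classical
  intro n P hP hmem d
  have hI : Ideal.span (Set.range (algebraMap R L ∘ f)) = (Ideal.span (Set.range f)).map (algebraMap R L) := by
    rw [Ideal.map_span, ← Set.range_comp]
  rw [hI] at hmem ⊢
  obtain ⟨b, hb⟩ := IsLocalization.exist_integer_multiples M P.support P.coeff
  choose! a ha using hb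
  let P₀ : MvPolynomial (Fin c) R := ∑ e ∈ P.support, monomial e (a e)
  have hP₀ : P₀.IsHomogeneous n := IsHomogeneous.sum _ _ _ fun e he => isHomogeneous_monomial _ (by
    rw [Finsupp.degree_eq_weight_one]; exact hP (mem_support_iff.mp he))
  have hmap : MvPolynomial.map (algebraMap R L) P₀ = C (algebraMap R L b) * P := by
    conv_rhs => rw [P.as_sum, Finset.mul_sum]
    rw [map_sum]
    refine Finset.sum_congr rfl fun e he => ?_
    rw [map_monomial, C_mul_monomial]
    exact congrArg _ ((ha e he).trans (Algebra.smul_def _ _))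
  have he : algebraMap R L (eval f P₀) ∈ ((Ideal.span (Set.range f)) ^ (n + 1)).map (algebraMap R L) := by
    rw [Ideal.map_pow, show algebraMap R L (eval f P₀) = eval (algebraMap R L ∘ f) (MvPolynomial.map (algebraMap R L) P₀) by
      rw [eval_map, eval₂_comp], hmap, map_mul, eval_C]
    exact Ideal.mul_mem_left _ _ hmem
  obtain ⟨t, ht, htm⟩ := (IsLocalization.algebraMap_mem_map_algebraMap_iff M L _ _).mp he
  have h2 := hf n (C t * P₀) (hP₀.C_mul t) (by rw [map_mul, eval_C]; exact htm) d
  rw [coeff_C_mul] at h2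
  have h3 := Ideal.mem_map_of_mem (algebraMap R L) h2
  rw [map_mul, Ideal.unit_mul_mem_iff_mem _ (IsLocalization.map_units L (⟨t, ht⟩ : M)), ← coeff_map, hmap,
    coeff_C_mul, Ideal.unit_mul_mem_iff_mem _ (IsLocalization.map_units L b)] at h3
  exact h3

/-- Sequences of any kind give regular sequences in the local rings. -/
theorem isWeaklyRegular_of_kind [IsNoetherianRing R] (k : RegImm.Kind) {rs : List R} (h : k.Seq R rs)
    (p : Ideal R) [p.IsPrime] (hp : Ideal.ofList rs ≤ p) (L : Type u) [CommRing L] [IsLocalRing L] [IsNoetherianRing L]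
    [Algebra R L] [IsLocalization.AtPrime L p] : IsWeaklyRegular L (rs.map (algebraMap R L)) := by
  have hmax : ∀ x ∈ rs, algebraMap R L x ∈ IsLocalRing.maximalIdeal L := fun x hx =>
    (IsLocalization.AtPrime.to_map_mem_maximal_iff L p x).mpr (hp (Ideal.subset_span hx))
  haveI : Module.Flat R L := IsLocalization.flat L p.primeCompl
  have quasi : CAlgX.IsQuasiRegular rs.get → IsWeaklyRegular L (rs.map (algebraMap R L)) := fun hq => by
    have h1 := Groth.L14.QRR.isWeaklyRegular_of_isQuasiRegular (algebraMap R L ∘ rs.get) (fun i => by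
      rw [IsLocalRing.jacobson_eq_maximalIdeal (⊥ : Ideal L) bot_ne_top]
      exact hmax _ (List.get_mem rs i)) (isQuasiRegular_localization p.primeCompl L hq)
    rwa [← List.map_ofFn, List.ofFn_get] at h1
  cases k with
  | regular => exact h.toIsWeaklyRegular.of_flat
  | koszul =>
    refine Groth.L07.KoszulBC.isWeaklyRegular_of_koszul _ (fun x hx => ?_) (fun n hn =>
      Groth.L07.KoszulBC.isZero_of_isKoszulRegularSeq _ (Groth.L07.KoszulFlat.isKoszulRegularSeq_map
        (algebraMap R L) (RingHom.flat_algebraMap_iff.mpr inferInstance) rs h) n hn)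
    obtain ⟨y, hy, rfl⟩ := List.mem_map.mp hx
    exact hmax y hy
  | h1 => exact quasi (isQuasiRegular_of_h1 h)
  | quasi => exact quasi h

/-- Regular sequences are of every kind. -/
theorem kind_of_isRegular (k : RegImm.Kind) {rs : List R} (h : IsRegular R rs) : k.Seq R rs := by
  have hk : LCI.IsKoszulRegularSeq R rs := by
    rw [Groth.L07.KoszulPerm.isKoszulRegularSeq_iff]
    exact fun n hn => Groth.L04.Koszul.isZero_of_isWeaklyRegular _ (ModuleCat.of R R) h.toIsWeaklyRegular n hn.ne
  cases k with
  | regular => exact h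
  | koszul => exact hk
  | h1 => exact Groth.L19.Thick.isH1Regular_of_koszul hk
  | quasi => exact Groth.L07.QReg.isQuasiRegular_of_isWeaklyRegular (by rw [List.ofFn_get]; exact h.toIsWeaklyRegular)

end Groth.L14.RegImmStalk
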