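import Groth.Agent.L14.RegImmStalk.Stalk
import Groth.Agent.L14.FlatMor.RegPair
import Groth.Prelude.Def_MoreMor
import Mathlib.AlgebraicGeometry.Morphisms.Immersion

/-! # A perfect immersion followed by an immersion, composite regular -/

set_option autoImplicit false
set_option linter.style.haveILetI false
set_option maxSynthPendingDepth 3

universe u

open CategoryTheory AlgebraicGeometry TensorProduct
open Groth.L07.RegImmAt (regularAt_iff restrict_closed exists_isClosedImmersion_restrict)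

namespace Groth.L14.RegImmStalk

theorem regularAt_pair_of_perfect {Z Y X : Scheme.{u}} (i : Z ⟶ Y) (j : Y ⟶ X) [IsImmersion i] [IsImmersion j]
    [IsLocallyNoetherian X] (z : Z) (h : RegImm.IsRegularImmersionAt .koszul (i ≫ j) z)
    (hi : MoreMor.IsPerfectMor i) :
    RegImm.IsRegularImmersionAt .koszul i z ∧ RegImm.IsRegularImmersionAt .koszul j (i z) := by
  haveI : IsLocallyNoetherian Y := LocallyOfFiniteType.isLocallyNoetherian j
  obtain ⟨O, hzO, hclO⟩ := exists_isClosedImmersion_restrict i z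
  obtain ⟨OX, hOX, hOXe⟩ := j.isEmbedding.isOpen_iff.mp O.2
  obtain ⟨W₁, hzW₁, hcl₁⟩ := exists_isClosedImmersion_restrict j (i z)
  have hxO : j (i z) ∈ OX := by
    exact (Set.ext_iff.mp hOXe (i z)).mpr hzO
  obtain ⟨_, ⟨W, hW, rfl⟩, hx, hWle⟩ := (X.isBasis_affineOpens).exists_subset_of_mem_open
    (show j (i z) ∈ (W₁ : Set X) ∩ OX from ⟨hzW₁, hxO⟩) (W₁.2.inter hOX)
  have hclj : IsClosedImmersion (j ∣_ W) := restrict_closed j (fun w hw => (hWle hw).1) hcl₁
  haveI := hclj
  haveI : IsAffine (W : Scheme.{u}) := hW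
  let V : Y.Opens := j ⁻¹ᵁ W
  have hV : IsAffineOpen V := isAffine_of_isAffineHom (j ∣_ W)
  have hVO : V ≤ O := fun y hy => by
    exact (Set.ext_iff.mp hOXe y).mp (hWle hy).2
  have hcli : IsClosedImmersion (i ∣_ V) := restrict_closed i hVO hclO
  haveI := hcli
  haveI : IsAffine (V : Scheme.{u}) := hV
  let U : Z.Opens := i ⁻¹ᵁ V
  have hU : IsAffineOpen U := isAffine_of_isAffineHom (i ∣_ V)
  have hclij : IsClosedImmersion ((i ≫ j) ∣_ W) := by
    rw [morphismRestrict_comp]
    exact IsClosedImmersion.comp (i ∣_ V) (j ∣_ W)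
  haveI : IsNoetherianRing Γ(X, W) := IsLocallyNoetherian.component_noetherian ⟨W, hW⟩
  haveI : IsNoetherianRing Γ(Y, V) := IsLocallyNoetherian.component_noetherian ⟨V, hV⟩
  let σ := (j.app W).hom
  have hσ : Function.Surjective σ := Groth.L07.RegImmComp.app_surjective j W hW hclj
  let K := RingHom.ker (i.app V).hom
  have hiz : i z ∈ V := hx
  let q := (hV.primeIdealOf ⟨i z, hiz⟩).asIdeal
  have hKq : K ≤ q := fun a ha => by
    by_contra hn
    have h1 : i z ∈ Y.basicOpen a := by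
      have h2 : hV.fromSpec (hV.primeIdealOf ⟨i z, hiz⟩) = i z := hV.fromSpec_primeIdealOf ⟨i z, hiz⟩
      rw [← h2]
      show hV.primeIdealOf ⟨i z, hiz⟩ ∈ hV.fromSpec ⁻¹ᵁ Y.basicOpen a
      rw [hV.fromSpec_preimage_basicOpen]
      exact hn
    have h3 : z ∈ i ⁻¹ᵁ Y.basicOpen a := h1
    rw [i.preimage_basicOpen, RingHom.mem_ker.mp ha, Scheme.basicOpen_zero] at h3
    exact h3
  have hQ : (hW.primeIdealOf ⟨j (i z), hx⟩).asIdeal = q.comap σ := by
    have := IsAffineOpen.comap_primeIdealOf_appLE (f := j) W hW V hV le_rfl (x := i z) hiz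
    rw [← Scheme.Hom.app_eq_appLE] at this
    exact (congrArg PrimeSpectrum.asIdeal this).symm
  have hJ : Groth.L07.KoszulIdeal.RegAt (K.comap σ) (q.comap σ) := by
    have h1 := (regularAt_iff (i ≫ j) W hW hclij z hx).mp h
    rw [← hQ]
    exact h1
  obtain ⟨hI, hK⟩ := Groth.L14.FlatMor.regAt_pair σ hσ K q hKq hJ (fun E _ _ _ _ => by
    have hf := hi U V hU hV le_rfl
    letI := (i.appLE V U le_rfl).hom.toAlgebra
    obtain ⟨d, hd⟩ := hf.2
    let π : Γ(Y, V) →ₐ[Γ(Y, V)] Γ(Z, U) :=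
      { (i.app V).hom with
        commutes' := fun b => RingHom.congr_fun (congrArg CommRingCat.Hom.hom (Scheme.Hom.app_eq_appLE (f := i) (U := V))) b }
    have hπ : Function.Surjective π := Groth.L07.RegImmComp.app_surjective i V hV hcli
    have hpd := Groth.L14.NLAmp.hasProjectiveDimensionLT_of_torDim (P := Γ(Y, V)) (M := Γ(Y, V) ⧸ K) d
      (Groth.L07.DiagRes.hasTorDimLE_congr (Ideal.quotientKerAlgEquivOfSurjective (f := π) hπ).symm.toLinearEquiv hd)
    haveI : Module.Flat Γ(Y, V) E := IsLocalization.flat E q.primeCompl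
    exact ⟨d, Groth.L07.DiagRes.res_baseChange_flat (Groth.L14.FlatMor.res_of_pd hpd)⟩)
  exact ⟨(regularAt_iff i V hV hcli z hiz).mpr hK, (regularAt_iff j W hW hclj (i z) hx).mpr (hQ ▸ hI)⟩

end Groth.L14.RegImmStalk
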